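import Groth.Agent.AlgSp2.ElemDistGlue.Rel
import Groth.Agent.AlgSpBasic.LocPInst
import Groth.Agent.AlgSp3.RedInduced
import Groth.Prelude.Def_AlgSpSub

/-!
# The glued space of a separated etale map along an open subspace
-/

set_option autoImplicit false
set_option linter.unusedSectionVars false
set_option backward.isDefEq.respectTransparency.types false
universe u

open CategoryTheory CategoryTheory.Limits AlgebraicGeometry TopologicalSpace Opposite AlgSp

namespace Groth.AlgSp2.ElemDistGlue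

open Groth.AlgSpBasic Groth.AlgSp2 Groth.AlgSp3 Groth.AlgSp2.Absolute

noncomputable section

variable {S : Scheme.{u}} {U V V' : Sp S} {jV : V' ⟶ V} {f' : V' ⟶ U}

/-- The glued space with its two members. -/
theorem exists_glued (D : Data jV f') (hU : IsAlgSpace U) (hV : IsAlgSpace V) (hV' : IsAlgSpace V')
    (hjV : RepWith @IsOpenImmersion jV) (het : IsEtaleMor f') (hsep : IsSeparatedMor f') :
    ∃ (W : Sp S) (j : U ⟶ W) (f : V ⟶ W),
      IsAlgSpace W ∧ IsPullback jV f' f j ∧ IsElemDistSq j f := by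
  haveI := D.open₁
  haveI := D.open₂
  have : Mono D.ι₁ := (Over.forget S).mono_of_mono_map (inferInstanceAs (Mono D.ι₁.left))
  have : Mono D.ι₂ := (Over.forget S).mono_of_mono_map (inferInstanceAs (Mono D.ι₂.left))
  have : Mono jV := mono_of_repWith (fun _ _ k (_ : IsOpenImmersion k) => inferInstance) hjV
  obtain ⟨R, t, s, hR, ht, hs, hrel⟩ := exists_rel D hU hV hV' hjV het hsep
  have := isLocallySurjective_yonQuotπ s t
  have sqR := isPullback_yonQuot hR
  obtain ⟨hW, hπe, hπs⟩ := isAlgSpace_of_kernelPair sqR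
  let π := yonQuotπ s t
  have hker : ∀ {Z : Over S} (x y : Z ⟶ D.A),
      (yon S).map x ≫ π = (yon S).map y ≫ π ↔ GRel D x y := by
    intro Z x y
    rw [← hrel]
    constructor
    · intro e
      obtain ⟨r, hr⟩ := (yon S).map_surjective (sqR.lift ((yon S).map x) ((yon S).map y) e)
      exact ⟨r, (yon S).map_injective (by rw [Functor.map_comp, hr, sqR.lift_fst]),
        (yon S).map_injective (by rw [Functor.map_comp, hr, sqR.lift_snd])⟩
    · rintro ⟨r, rfl, rfl⟩
      rw [Functor.map_comp _ r t, Functor.map_comp _ r s, Category.assoc, Category.assoc]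
      exact congrArg ((yon S).map r ≫ ·) sqR.w
  obtain ⟨j, hj⟩ := exists_desc_of_etale D.u D.hu D.hus ((yon S).map D.ι₁ ≫ π) fun Z p q e => by
    obtain ⟨p, rfl⟩ := (yon S).map_surjective p
    obtain ⟨q, rfl⟩ := (yon S).map_surjective q
    rw [← Functor.map_comp_assoc, ← Functor.map_comp_assoc]
    exact (hker _ _).2 fun z => ⟨⊤, trivial, Or.inl ⟨resι ⊤ ≫ p, resι ⊤ ≫ q,
      Category.assoc _ _ _, Category.assoc _ _ _, by simp only [Functor.map_comp, Category.assoc, e]⟩⟩
  obtain ⟨f, hf⟩ := exists_desc_of_etale D.a D.ha D.has ((yon S).map D.ι₂ ≫ π) fun Z p q e => by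
    obtain ⟨p, rfl⟩ := (yon S).map_surjective p
    obtain ⟨q, rfl⟩ := (yon S).map_surjective q
    rw [← Functor.map_comp_assoc, ← Functor.map_comp_assoc]
    exact (hker _ _).2 fun z => ⟨⊤, trivial, Or.inr ⟨resι ⊤ ≫ p, resι ⊤ ≫ q,
      Category.assoc _ _ _, Category.assoc _ _ _, by simp only [Functor.map_comp, Category.assoc, e]⟩⟩
  -- `U` is the image of `A'`
  have sqj : IsPullback D.u ((yon S).map D.ι₁) j π := by
    refine isPullback_of_covers D.hu D.hus hj (fun x y _ e => (cancel_mono D.ι₁).1 e) fun x y e => ?_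
    have h := (hker _ _).1 e
    have hy : Set.range y.left ⊆ Set.range D.ι₁.left := by
      rintro _ ⟨z, rfl⟩
      obtain ⟨L, hz, ⟨x', y', -, hy, -⟩ | ⟨x', y', hx, hy, e'⟩⟩ := h z
      · refine ⟨y'.left ⟨z, hz⟩, ?_⟩
        have := congrArg (fun f => f.left ⟨z, hz⟩) hy
        simpa using this
      · obtain ⟨w₁, hw₁, -⟩ := exists_lift_mixed D (resι L ≫ x) x' y'
          (by rw [Category.assoc]; exact hx.symm) e'
        refine ⟨w₁.left ⟨z, hz⟩, ?_⟩
        have := congrArg (fun f => f.left ⟨z, hz⟩) (hw₁.trans hy)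
        simpa using this
    obtain ⟨y', hy'⟩ := exists_lift_of_range D.ι₁ y hy
    refine ⟨y', hom_ext_res fun z => ?_, hy'⟩
    obtain ⟨L, hz, ⟨x₁, y₁, hx₁, hy₁, e'⟩ | ⟨x₂, y₂, hx₂, hy₂, e'⟩⟩ := h z
    · refine ⟨L, hz, ?_⟩
      have h₁ : x₁ = resι L ≫ x := (cancel_mono D.ι₁).1 (by rw [hx₁, Category.assoc])
      have h₂ : y₁ = resι L ≫ y' := (cancel_mono D.ι₁).1 (by rw [hy₁, Category.assoc, hy'])
      rw [← Functor.map_comp_assoc, ← Functor.map_comp_assoc, ← h₁, ← h₂, e']
    · refine ⟨L, hz, ?_⟩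
      obtain ⟨w₁, hw₁, eu⟩ := exists_lift_mixed D (resι L ≫ x) x₂ y₂
        (by rw [Category.assoc]; exact hx₂.symm) e'
      have h₂ : w₁ = resι L ≫ y' := (cancel_mono D.ι₁).1 (by
        rw [hw₁, hy₂, Category.assoc, hy'])
      rw [← Functor.map_comp_assoc, ← Functor.map_comp_assoc, ← h₂, eu]
  have hjo : RepWith @IsOpenImmersion j :=
    repWith_of_sepLQF (Q := @IsOpenImmersion) π sqj inferInstance
  have : Mono j := mono_of_repWith (fun _ _ k (_ : IsOpenImmersion k) => inferInstance) hjo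
  -- `f` is etale
  have hfe : IsEtaleMor f := isEtaleMor_of_locP hW (locP_of_source_cover hV hW D.ha D.has
    (locP_of_repWith (by
      rw [hf]
      exact repWith_comp ((repWith_yon_map_iff _ D.ι₂).2 (inferInstance : Etale D.ι₂.left)) hπe)))
  -- the square
  have ha''e : RepWith @Etale D.a'' := repWith_of_isPullback D.sqV.flip D.ha
  have ha''s : RepWith @Surjective D.a'' := repWith_of_isPullback D.sqV.flip D.has
  have sqW : IsPullback jV f' f j := by
    have w : jV ≫ f = f' ≫ j := Groth.AlgSp2.hom_ext_of_etale D.a'' ha''e ha''s (by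
      rw [← Category.assoc, D.sqV.w, Category.assoc, hf, ← Category.assoc D.a'', ← D.comm,
        Category.assoc, hj, ← Functor.map_comp_assoc, ← Functor.map_comp_assoc, D.sqι.w])
    refine isPullback_of_lifts w (fun T b c e => ?_) fun T x x' h _ => (cancel_mono jV).1 h
    obtain ⟨O, o, fo, sqO⟩ := hjV.rep b
    have : IsOpenImmersion o.left := hjV.property b fo o sqO
    obtain ⟨l, hl⟩ := exists_lift_of_range o (𝟙 T) (by
      rintro _ ⟨p, rfl⟩
      obtain ⟨q, hq⟩ := surjective_ofPt_of_repWith D.has (Points.ofPt b p)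
      have h₁ : Points.map j (Points.ofPt c p) = Points.ofPt π (D.ι₂.left q) := by
        rw [Points.map_ofPt, ← e, ← Points.map_ofPt, ← hq, Points.map_ofPt, hf, ofPt_comp_yon]
      obtain ⟨v, -, hv⟩ := (map_eq_ofPt_iff sqj _ _).1 h₁
      obtain ⟨r, -, hr⟩ := Scheme.exists_preimage_of_isPullback
        (isPullback_left (D.sqι.map (yon S) |> isPullback_of_yon)) v q hv
      have h₂ : Points.map jV (Points.ofPt D.a'' r) = Points.ofPt b p := by
        rw [Points.map_ofPt, D.sqV.w, ofPt_comp_yon, hr, hq]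
      obtain ⟨z, -, hz⟩ := (map_eq_ofPt_iff sqO _ _).1 h₂
      exact ⟨z, hz⟩)
    have hb : ((yon S).map l ≫ fo) ≫ jV = b := by
      rw [Category.assoc, sqO.w, ← Functor.map_comp_assoc, hl, (yon S).map_id, Category.id_comp]
    refine ⟨(yon S).map l ≫ fo, hb, (cancel_mono j).1 ?_⟩
    rw [Category.assoc _ f' j, ← w, ← Category.assoc, hb, e]
  -- the complement
  have hjr : IsOpen (Set.range (Points.map j)) :=
    (isOpenMap_map_of_locP hU hW
      (fun A B x y h hx hy e => by
        have : Etale h.left := locP_of_repWith (repWith_mono (fun _ _ k (_ : IsOpenImmersion k) =>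
          (inferInstance : Etale k)) hjo) x y h hx hy e
        exact (inferInstance : Flat h.left))
      (fun A B x y h hx hy e => by
        have : Etale h.left := locP_of_repWith (repWith_mono (fun _ _ k (_ : IsOpenImmersion k) =>
          (inferInstance : Etale k)) hjo) x y h hx hy e
        exact (inferInstance : LocallyOfFinitePresentation h.left))).isOpen_range
  obtain ⟨T, i, hT, hi⟩ := exists_isRedInduced hW hjr.isClosed_compl
  -- lifts outside `U` are unique
  have key : ∀ {Z : Over S} (v₁ v₂ : (yon S).obj Z ⟶ V), v₁ ≫ f = v₂ ≫ f →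
      (∀ z, Points.ofPt (v₁ ≫ f) z ∉ Set.range (Points.map j)) → v₁ = v₂ := by
    intro Z v₁ v₂ e hz
    obtain ⟨Z₁, c₁, x₁, sq₁⟩ := exists_pullback_yon (representable_of_diag hV.diag v₁) D.a
    have hc₁ : RepWith @Etale ((yon S).map c₁) := repWith_of_isPullback sq₁.flip D.ha
    have hc₁s : RepWith @Surjective ((yon S).map c₁) := repWith_of_isPullback sq₁.flip D.has
    obtain ⟨Z₂, c₂, x₂, sq₂⟩ :=
      exists_pullback_yon (representable_of_diag hV.diag ((yon S).map c₁ ≫ v₂)) D.a
    have hc₂ : RepWith @Etale ((yon S).map c₂) := repWith_of_isPullback sq₂.flip D.ha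
    have hc₂s : RepWith @Surjective ((yon S).map c₂) := repWith_of_isPullback sq₂.flip D.has
    refine Groth.AlgSp2.hom_ext_of_etale _ hc₁ hc₁s
      (Groth.AlgSp2.hom_ext_of_etale _ hc₂ hc₂s ?_)
    rw [sq₂.w, sq₁.w, ← Functor.map_comp_assoc]
    have e' : (yon S).map ((c₂ ≫ x₁) ≫ D.ι₂) ≫ π = (yon S).map (x₂ ≫ D.ι₂) ≫ π := by
      rw [Functor.map_comp _ _ D.ι₂, Functor.map_comp _ _ D.ι₂, Category.assoc, Category.assoc,
        ← hf, Functor.map_comp, Category.assoc, ← reassoc_of% sq₁.w, ← reassoc_of% sq₂.w, e]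
    refine hom_ext_res fun z => ?_
    obtain ⟨L, hzL, ⟨x', y', hx, -, -⟩ | ⟨x', y', hx, hy, e''⟩⟩ := (hker _ _).1 e' z
    · refine absurd ⟨Points.ofPt D.u (x'.left ⟨z, hzL⟩), ?_⟩ (hz ((c₂ ≫ c₁).left z))
      have e₀ : (yon S).map ((c₂ ≫ x₁) ≫ D.ι₂) ≫ π = (yon S).map (c₂ ≫ c₁) ≫ v₁ ≫ f := by
        rw [Functor.map_comp, Functor.map_comp, Functor.map_comp, Category.assoc, Category.assoc,
          Category.assoc, ← hf, reassoc_of% sq₁.w]
      rw [Points.map_ofPt, hj, ofPt_comp_yon, ← ofPt_comp_yon (c₂ ≫ c₁) (v₁ ≫ f) z, ← e₀,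
        ofPt_comp_yon]
      refine congrArg (Points.ofPt π) ?_
      rw [← Scheme.Hom.comp_apply, ← Over.comp_left, hx]
      rfl
    · refine ⟨L, hzL, ?_⟩
      rw [← Functor.map_comp_assoc, ← Functor.map_comp_assoc,
        show resι L ≫ c₂ ≫ x₁ = x' from (cancel_mono D.ι₂).1 (by rw [hx]; simp only [Category.assoc]),
        show resι L ≫ x₂ = y' from (cancel_mono D.ι₂).1 (by rw [hy, Category.assoc]), e'']
  have hout : ∀ {Z : Over S} (x : (yon S).obj Z ⟶ T) (z : Z.left),
      Points.ofPt (x ≫ i) z ∉ Set.range (Points.map j) := fun x z =>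
    hi.2.1.le ⟨Points.ofPt x z, Points.map_ofPt _ _ _⟩
  -- a section over the complement
  obtain ⟨T₀, pT, hpT, hpTs⟩ := hT.atlas
  obtain ⟨M, mT, mA, sqM⟩ := exists_pullback_yon (representable_of_diag hW.diag (pT ≫ i)) π
  have hmT : RepWith @Etale ((yon S).map mT) := repWith_of_isPullback sqM.flip hπe
  have hmTs : RepWith @Surjective ((yon S).map mT) := repWith_of_isPullback sqM.flip hπs
  obtain ⟨x₂, hx₂⟩ := exists_lift_of_range D.ι₂ mA (by
    rintro _ ⟨p, rfl⟩
    refine (D.cover (mA.left p)).resolve_left fun ⟨q, hq⟩ =>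
      hout ((yon S).map mT ≫ pT) p ⟨Points.ofPt D.u q, ?_⟩
    rw [Points.map_ofPt, hj, ofPt_comp_yon, hq, Category.assoc, sqM.w, ofPt_comp_yon])
  have hv : ((yon S).map x₂ ≫ D.a) ≫ f = ((yon S).map mT ≫ pT) ≫ i := by
    rw [Category.assoc, hf, ← Functor.map_comp_assoc, hx₂, Category.assoc, sqM.w]
  obtain ⟨σ, hσ⟩ := exists_desc_of_etale _ (repWith_comp hmT hpT) (repWith_comp hmTs hpTs)
    ((yon S).map x₂ ≫ D.a) fun Z p q epq => by
      refine key _ _ ?_ fun z => ?_
      · rw [Category.assoc p, Category.assoc q, hv, ← Category.assoc p, ← Category.assoc q, epq]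
      · rw [Category.assoc p, hv, ← Category.assoc]
        exact hout _ z
  have hσf : σ ≫ f = i := Groth.AlgSp2.hom_ext_of_etale _ (repWith_comp hmT hpT)
    (repWith_comp hmTs hpTs) (by rw [← Category.assoc, hσ, hv])
  refine ⟨_, j, f, hW, sqW, hjo, hfe, T, pullback i f, i, pullback.fst i f, pullback.snd i f, hi,
    IsPullback.of_hasPullback i f, ⟨pullback.lift (𝟙 T) σ (by rw [hσf, Category.id_comp]), ?_,
      pullback.lift_fst _ _ _⟩⟩
  refine pullback.hom_ext ?_ ?_
  · rw [Category.assoc, pullback.lift_fst, Category.comp_id, Category.id_comp]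
  · rw [Category.assoc, pullback.lift_snd, Category.id_comp]
    refine Groth.AlgSp2.hom_ext_yon fun Z x => key _ _ ?_ fun z => ?_
    · rw [Category.assoc, Category.assoc, hσf, Category.assoc, pullback.condition]
    · rw [Category.assoc, Category.assoc, hσf, ← Category.assoc]
      exact hout _ z

end

end Groth.AlgSp2.ElemDistGlue
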