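import Groth.Agent.AlgSp2.ElemDistGlue.Glue
import Groth.Agent.AlgSp2.Approx.SigmaPieces
import Groth.Agent.HenselPoint.SigmaRep
import Groth.Agent.AlgSpBasic.ElemDistPushout

/-!
# Pushouts of separated etale maps along open immersions
-/

set_option autoImplicit false
set_option linter.unusedSectionVars false
set_option backward.isDefEq.respectTransparency.types false
universe u

open CategoryTheory CategoryTheory.Limits AlgebraicGeometry Opposite AlgSp

namespace Groth.AlgSp2.ElemDistGlue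

open Groth.AlgSpBasic Groth.AlgSp2 Groth.AlgSp2.Approx

noncomputable section

variable {S : Scheme.{u}} {U V V' : Sp S} {jV : V' ⟶ V} {f' : V' ⟶ U}

/-- Charts exist. -/
theorem exists_data (hU : IsAlgSpace U) (hV : IsAlgSpace V) (hjV : RepWith @IsOpenImmersion jV)
    (het : IsEtaleMor f') : Nonempty (Data jV f') := by
  obtain ⟨U₀, pU, hpU, hpUs⟩ := hU.atlas
  obtain ⟨V₀, pV, hpV, hpVs⟩ := hV.atlas
  obtain ⟨A'', k₂, a'', sqV⟩ := hjV.rep pV
  have hk₂ : IsOpenImmersion k₂.left := hjV.property pV a'' k₂ sqV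
  have ha'' : RepWith @Etale a'' := repWith_of_isPullback sqV.flip hpV
  let K : ULift.{u} Bool → Over S := fun k => match k with
    | ⟨true⟩ => U₀
    | ⟨false⟩ => V₀
  let K' : ULift.{u} Bool → Over S := fun k => match k with
    | ⟨true⟩ => U₀
    | ⟨false⟩ => A''
  let w : ∀ k, K' k ⟶ K k := fun k => match k with
    | ⟨true⟩ => 𝟙 U₀
    | ⟨false⟩ => k₂
  let xu : ∀ k, (yon S).obj (K' k) ⟶ U := fun k => match k with
    | ⟨true⟩ => pU
    | ⟨false⟩ => a'' ≫ f'
  obtain ⟨u, hu, -⟩ := Groth.AlgSp2.exists_glue K' xu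
  have hue : RepWith @Etale u := Groth.HenselPoint.repWith_sigma u fun k => by
    rw [hu]
    rcases k with ⟨_ | _⟩
    · exact het a'' ha''
    · exact hpU
  have hus : RepWith @Surjective u := repWith_surjective_of_ofPt hue.rep fun y => by
    obtain ⟨x, rfl⟩ := surjective_ofPt_of_repWith hpUs y
    refine ⟨(sigmaIncl K' ⟨true⟩).left x, ?_⟩
    rw [← ofPt_comp_yon, hu]
  have hincl : ∀ (F : ULift.{u} Bool → Over S) k, IsOpenImmersion (sigmaIncl F k).left := fun F k =>
    inferInstanceAs (IsOpenImmersion (Limits.Sigma.ι (fun i => (F i).left) k))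
  have hw : IsOpenImmersion (sigmaMap w).left := sigmaMap_prop (P := @IsOpenImmersion) w (by
    rintro ⟨_ | _⟩
    · exact hk₂
    · exact inferInstanceAs (IsOpenImmersion (𝟙 U₀.left)))
  have hclosed : IsClosed (Set.range (sigmaIncl K' ⟨false⟩).left) := by
    have e : Set.range (sigmaIncl K' ⟨false⟩).left = (Set.range (sigmaIncl K' ⟨true⟩).left)ᶜ := by
      ext x
      constructor
      · rintro ⟨a, rfl⟩ ⟨b, hb⟩
        have h := congrArg Sigma.fst
          ((sigmaι_eq_iff (fun i => (K' i).left) ⟨true⟩ ⟨false⟩ b a).1 hb)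
        simp at h
      · intro hx
        obtain ⟨⟨_ | _⟩, y, hy⟩ := Groth.HenselPoint.exists_sigmaIncl_eq x
        · exact ⟨y, hy⟩
        · exact absurd ⟨y, hy⟩ hx
    rw [e]
    exact (haveI := hincl K' ⟨true⟩
      (sigmaIncl K' ⟨true⟩).left.isOpenEmbedding.isOpen_range.isClosed_compl)
  exact ⟨{
    A := sigmaObj K, A' := sigmaObj K', A₂ := V₀, A'' := A''
    ι₁ := sigmaMap w, ι₂ := sigmaIncl K ⟨false⟩, k₁ := sigmaIncl K' ⟨false⟩, k₂ := k₂
    open₁ := hw, open₂ := hincl K ⟨false⟩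
    sqι := isPullback_component w ⟨false⟩
    closed := hclosed
    cover := fun x => by
      obtain ⟨⟨_ | _⟩, y, hy⟩ := Groth.HenselPoint.exists_sigmaIncl_eq x
      · exact Or.inr ⟨y, hy⟩
      · refine Or.inl ⟨(sigmaIncl K' ⟨true⟩).left y, ?_⟩
        rw [← Scheme.Hom.comp_apply, ← Over.comp_left, sigmaIncl_map]
        exact hy
    u := u, a := pV, a'' := a''
    hu := hue, hus := hus, ha := hpV, has := hpVs, sqV := sqV, comm := hu ⟨false⟩ }⟩

/-- A separated etale map on an open subspace has a pushout along it forming a distinguished square. -/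
theorem exists_isPushout {U V V' : AlgSp.Space S} (jV : V' ⟶ V)
    (hjV : AlgSp.RepWith @IsOpenImmersion jV.hom) (f' : V' ⟶ U)
    (hsep : AlgSp.IsSeparatedMor f'.hom) (het : AlgSp.IsEtaleMor f'.hom) :
    ∃ (W : AlgSp.Space S) (j : U ⟶ W) (f : V ⟶ W), IsPushout jV f' f j ∧
      IsPullback jV.hom f'.hom f.hom j.hom ∧ AlgSp.IsElemDistSq j.hom f.hom := by
  obtain ⟨D⟩ := exists_data U.property V.property hjV het
  obtain ⟨W, j, f, hW, sqW, hsq⟩ :=
    exists_glued D U.property V.property V'.property hjV het hsep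
  let W' : AlgSp.Space S := ⟨W, hW⟩
  let j' : U ⟶ W' := ObjectProperty.homMk j
  let f₁ : V ⟶ W' := ObjectProperty.homMk f
  refine ⟨W', j', f₁, ?_, sqW, hsq⟩
  have key : ∀ (Q : AlgSp.Space S) (b : V ⟶ Q) (a : U ⟶ Q), jV ≫ b = f' ≫ a →
      ∃! m : W' ⟶ Q, f₁ ≫ m = b ∧ j' ≫ m = a := fun Q b a hab => by
    obtain ⟨m, ⟨h₁, h₂⟩, hu⟩ := Groth.AlgSpBasic.existsUnique_of_elemDist U.property V.property
      hW hsq sqW.flip a.hom b.hom (congrArg (fun k : V' ⟶ Q => k.hom) hab).symm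
    exact ⟨ObjectProperty.homMk m, ⟨InducedCategory.hom_ext h₂, InducedCategory.hom_ext h₁⟩,
      fun m' hm' => InducedCategory.hom_ext (hu m'.hom ⟨congrArg (fun k : U ⟶ Q => k.hom) hm'.2,
        congrArg (fun k : V ⟶ Q => k.hom) hm'.1⟩)⟩
  choose m hm hu using key
  exact ⟨⟨InducedCategory.hom_ext sqW.w⟩, ⟨PushoutCocone.IsColimit.mk _
    (fun s => m _ s.inl s.inr s.condition) (fun s => (hm _ _ _ _).1) (fun s => (hm _ _ _ _).2)
    fun s k h₁ h₂ => hu _ _ _ _ k ⟨h₁, h₂⟩⟩⟩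

end

end Groth.AlgSp2.ElemDistGlue
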