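import Groth.Agent.AlgSp2.Absolute.EtaleGlue
import Groth.Agent.AlgSpBasic.Unramified

/-!
# The gluing relation of a separated etale map along an open subspace

`A` is covered by opens `A'`, etale over `U`, and `A₂`, etale over `V`; the common part `A''` lies
over the open subspace `V'` of `V`, which maps to `U`. Two points of `A` are identified when
locally both lie in `A'` with the same image in `U` or both lie in `A₂` with the same image in `V`.
-/

set_option autoImplicit false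
set_option linter.unusedSectionVars false
set_option backward.isDefEq.respectTransparency.types false
universe u

open CategoryTheory CategoryTheory.Limits AlgebraicGeometry TopologicalSpace Opposite AlgSp

namespace Groth.AlgSp2.ElemDistGlue

open Groth.AlgSpBasic Groth.AlgSp2 Groth.AlgSp3 Groth.AlgSp2.Absolute

noncomputable section

variable {S : Scheme.{u}}

/-- Charts for gluing along a separated etale map on an open subspace. -/
structure Data {U V V' : Sp S} (jV : V' ⟶ V) (f' : V' ⟶ U) where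
  A : Over S
  A' : Over S
  A₂ : Over S
  A'' : Over S
  ι₁ : A' ⟶ A
  ι₂ : A₂ ⟶ A
  k₁ : A'' ⟶ A'
  k₂ : A'' ⟶ A₂
  open₁ : IsOpenImmersion ι₁.left
  open₂ : IsOpenImmersion ι₂.left
  sqι : IsPullback k₁ k₂ ι₁ ι₂
  closed : IsClosed (Set.range k₁.left)
  cover : ∀ x : A.left, x ∈ Set.range ι₁.left ∨ x ∈ Set.range ι₂.left
  u : (yon S).obj A' ⟶ U
  a : (yon S).obj A₂ ⟶ V
  a'' : (yon S).obj A'' ⟶ V'
  hu : RepWith @Etale u
  hus : RepWith @Surjective u
  ha : RepWith @Etale a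
  has : RepWith @Surjective a
  sqV : IsPullback a'' ((yon S).map k₂) jV a
  comm : (yon S).map k₁ ≫ u = a'' ≫ f'

variable {U V V' : Sp S} {jV : V' ⟶ V} {f' : V' ⟶ U} (D : Data jV f')

/-- Locally in `A'` with the same image in `U`, or in `A₂` with the same image in `V`. -/
def GRel {Z : Over S} (x y : Z ⟶ D.A) : Prop :=
  ∀ z : ↥Z.left, ∃ L : Z.left.Opens, z ∈ L ∧
    ((∃ x' y' : resObj L ⟶ D.A', x' ≫ D.ι₁ = resι L ≫ x ∧ y' ≫ D.ι₁ = resι L ≫ y ∧
      (yon S).map x' ≫ D.u = (yon S).map y' ≫ D.u) ∨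
    (∃ x' y' : resObj L ⟶ D.A₂, x' ≫ D.ι₂ = resι L ≫ x ∧ y' ≫ D.ι₂ = resι L ≫ y ∧
      (yon S).map x' ≫ D.a = (yon S).map y' ≫ D.a))

theorem GRel.refl {Z : Over S} (x : Z ⟶ D.A) : GRel D x x := fun z => by
  haveI := D.open₁
  haveI := D.open₂
  rcases D.cover (x.left z) with h | h
  · obtain ⟨b, hb⟩ := exists_resLift_of_mem D.ι₁ x
    exact ⟨_, h, Or.inl ⟨b, b, hb, hb, rfl⟩⟩
  · obtain ⟨b, hb⟩ := exists_resLift_of_mem D.ι₂ x
    exact ⟨_, h, Or.inr ⟨b, b, hb, hb, rfl⟩⟩

theorem GRel.symm {D : Data jV f'} {Z : Over S} {x y : Z ⟶ D.A} (h : GRel D x y) : GRel D y x :=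
  fun z => by
  obtain ⟨L, hz, ⟨x', y', hx, hy, e⟩ | ⟨x', y', hx, hy, e⟩⟩ := h z
  · exact ⟨L, hz, Or.inl ⟨y', x', hy, hx, e.symm⟩⟩
  · exact ⟨L, hz, Or.inr ⟨y', x', hy, hx, e.symm⟩⟩

/-- A point of `A'` identified in `A₂` with another point gives that point in `A'`. -/
theorem exists_lift_mixed {T : Over S} (y₁ : T ⟶ D.A') (y₂ w₂ : T ⟶ D.A₂)
    (hy : y₁ ≫ D.ι₁ = y₂ ≫ D.ι₂) (e : (yon S).map y₂ ≫ D.a = (yon S).map w₂ ≫ D.a) :
    ∃ w₁ : T ⟶ D.A', w₁ ≫ D.ι₁ = w₂ ≫ D.ι₂ ∧
      (yon S).map w₁ ≫ D.u = (yon S).map y₁ ≫ D.u := by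
  let y'' := D.sqι.lift y₁ y₂ hy
  have hy₁ : y'' ≫ D.k₁ = y₁ := D.sqι.lift_fst _ _ _
  have hy₂ : y'' ≫ D.k₂ = y₂ := D.sqι.lift_snd _ _ _
  have hw : ((yon S).map y'' ≫ D.a'') ≫ jV = (yon S).map w₂ ≫ D.a := by
    rw [Category.assoc, D.sqV.w, ← Functor.map_comp_assoc, hy₂, e]
  obtain ⟨w'', hw''⟩ := (yon S).map_surjective (D.sqV.lift _ _ hw)
  have hw₂ : w'' ≫ D.k₂ = w₂ := (yon S).map_injective (by
    rw [Functor.map_comp, hw'', D.sqV.lift_snd])
  refine ⟨w'' ≫ D.k₁, ?_, ?_⟩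
  · rw [Category.assoc, D.sqι.w, reassoc_of% hw₂]
  · rw [Functor.map_comp, Category.assoc, D.comm, ← hy₁, Functor.map_comp, Category.assoc, D.comm,
      ← Category.assoc, hw'', D.sqV.lift_fst, Category.assoc]

theorem GRel.trans {D : Data jV f'} {Z : Over S} {x y w : Z ⟶ D.A} (h : GRel D x y)
    (h' : GRel D y w) : GRel D x w := fun z => by
  haveI := D.open₁
  haveI := D.open₂
  obtain ⟨L₁, hz₁, h₁⟩ := h z
  obtain ⟨L₂, hz₂, h₂⟩ := h' z
  obtain ⟨m, hm, -⟩ := exists_resMap (inf_le_left : L₁ ⊓ L₂ ≤ L₁)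
  obtain ⟨n, hn, -⟩ := exists_resMap (inf_le_right : L₁ ⊓ L₂ ≤ L₂)
  have : Mono D.ι₁ := (Over.forget S).mono_of_mono_map (inferInstanceAs (Mono D.ι₁.left))
  have : Mono D.ι₂ := (Over.forget S).mono_of_mono_map (inferInstanceAs (Mono D.ι₂.left))
  refine ⟨L₁ ⊓ L₂, ⟨hz₁, hz₂⟩, ?_⟩
  rcases h₁ with ⟨x', y', hx, hy, e₁⟩ | ⟨x', y', hx, hy, e₁⟩ <;>
    rcases h₂ with ⟨y'', w', hy', hw, e₂⟩ | ⟨y'', w', hy', hw, e₂⟩ <;>
    have ex := (yon S).map m ≫= e₁ <;> have ew := (yon S).map n ≫= e₂ <;>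
    rw [← Functor.map_comp_assoc, ← Functor.map_comp_assoc] at ex ew
  · left
    have e : m ≫ y' = n ≫ y'' := (cancel_mono D.ι₁).1 (by
      rw [Category.assoc, hy, reassoc_of% hm, Category.assoc, hy', reassoc_of% hn])
    refine ⟨m ≫ x', n ≫ w', ?_, ?_, ?_⟩
    · rw [Category.assoc, hx, reassoc_of% hm]
    · rw [Category.assoc, hw, reassoc_of% hn]
    · rw [ex, e, ew]
  · left
    obtain ⟨w₁, hw₁, eu⟩ := exists_lift_mixed D (m ≫ y') (n ≫ y'') (n ≫ w') (by
      rw [Category.assoc, hy, reassoc_of% hm, Category.assoc, hy', reassoc_of% hn]) ew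
    refine ⟨m ≫ x', w₁, ?_, ?_, ?_⟩
    · rw [Category.assoc, hx, reassoc_of% hm]
    · rw [hw₁, Category.assoc, hw, reassoc_of% hn]
    · rw [ex, eu]
  · left
    obtain ⟨x₁, hx₁, eu⟩ := exists_lift_mixed D (n ≫ y'') (m ≫ y') (m ≫ x') (by
      rw [Category.assoc, hy', reassoc_of% hn, Category.assoc, hy, reassoc_of% hm]) ex.symm
    refine ⟨x₁, n ≫ w', ?_, ?_, ?_⟩
    · rw [hx₁, Category.assoc, hx, reassoc_of% hm]
    · rw [Category.assoc, hw, reassoc_of% hn]
    · rw [eu, ew]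
  · right
    have e : m ≫ y' = n ≫ y'' := (cancel_mono D.ι₂).1 (by
      rw [Category.assoc, hy, reassoc_of% hm, Category.assoc, hy', reassoc_of% hn])
    refine ⟨m ≫ x', n ≫ w', ?_, ?_, ?_⟩
    · rw [Category.assoc, hx, reassoc_of% hm]
    · rw [Category.assoc, hw, reassoc_of% hn]
    · rw [ex, e, ew]

/-- Nested restrictions are restrictions. -/
theorem exists_resNested {Z : Over S} (L : Z.left.Opens) (L' : (resObj L).left.Opens)
    (z : (resObj L).left) (hz : z ∈ L') :
    ∃ (M : Z.left.Opens) (k : resObj M ⟶ resObj L'), L.ι z ∈ M ∧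
      k ≫ resι L' ≫ resι L = resι M := by
  refine ⟨L.ι ''ᵁ L', Over.homMk (Scheme.Hom.isoImage L.ι L').inv (by
    show _ ≫ L'.ι ≫ L.ι ≫ Z.hom = (L.ι ''ᵁ L').ι ≫ Z.hom
    rw [Scheme.Hom.isoImage_inv_ι_assoc]), ⟨z, hz, rfl⟩,
    Over.OverMorphism.ext (Scheme.Hom.isoImage_inv_ι _ _)⟩

/-- A map with range in an open immersion lifts. -/
theorem exists_lift_of_range {B Z A : Over S} (i : B ⟶ A) [IsOpenImmersion i.left] (x : Z ⟶ A)
    (h : Set.range x.left ⊆ Set.range i.left) : ∃ b : Z ⟶ B, b ≫ i = x :=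
  ⟨Over.homMk (IsOpenImmersion.lift i.left x.left h) (by
    rw [← Over.w i, IsOpenImmersion.lift_fac_assoc, Over.w x]),
    Over.OverMorphism.ext (IsOpenImmersion.lift_fac _ _ _)⟩

/-- The relation is given by the points of a scheme with two etale maps. -/
theorem exists_rel (hU : IsAlgSpace U) (hV : IsAlgSpace V) (hV' : IsAlgSpace V')
    (hjV : RepWith @IsOpenImmersion jV) (het : IsEtaleMor f') (hsep : IsSeparatedMor f') :
    ∃ (R : Over S) (t s : R ⟶ D.A), IsEqvRel s t ∧ Etale t.left ∧ Etale s.left ∧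
      (∀ {Z : Over S} (x y : Z ⟶ D.A),
        (∃ r : Z ⟶ R, r ≫ t = x ∧ r ≫ s = y) ↔ GRel D x y) := by
  haveI := D.open₁
  haveI := D.open₂
  have : Mono D.ι₁ := (Over.forget S).mono_of_mono_map (inferInstanceAs (Mono D.ι₁.left))
  have : Mono D.ι₂ := (Over.forget S).mono_of_mono_map (inferInstanceAs (Mono D.ι₂.left))
  have : Mono jV := mono_of_repWith (fun _ _ k (_ : IsOpenImmersion k) => inferInstance) hjV
  have hk₁o : IsOpenImmersion D.k₁.left :=
    MorphismProperty.of_isPullback (P := @IsOpenImmersion) (isPullback_left (D.sqι.map (yon S) |>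
      isPullback_of_yon)).flip D.open₂
  have : Mono D.k₁ := (Over.forget S).mono_of_mono_map (inferInstanceAs (Mono D.k₁.left))
  obtain ⟨R₀, p₁, p₂, sq⟩ := exists_pullback_of_diag hU.diag D.u D.u
  have hp₁ : Etale p₁.left := repWith_fst_of_isPullback sq.flip D.hu
  have hp₂ : Etale p₂.left := repWith_fst_of_isPullback sq D.hu
  obtain ⟨P, q₁, q₂, sqP⟩ := exists_pullback_of_diag hV.diag D.a D.a
  have hq₁ : Etale q₁.left := repWith_fst_of_isPullback sqP.flip D.ha
  have hq₂ : Etale q₂.left := repWith_fst_of_isPullback sqP D.ha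
  -- the part over the overlap
  let O : R₀.left.Opens := p₁.left ⁻¹ᵁ D.k₁.left.opensRange ⊓ p₂.left ⁻¹ᵁ D.k₁.left.opensRange
  have hO : IsClosed (O : Set R₀.left) :=
    (D.closed.preimage p₁.left.continuous).inter (D.closed.preimage p₂.left.continuous)
  obtain ⟨m₁, hm₁⟩ := exists_lift_of_range D.k₁ (resι O ≫ p₁) (by
    rintro _ ⟨p, rfl⟩; exact p.2.1)
  obtain ⟨m₂, hm₂⟩ := exists_lift_of_range D.k₁ (resι O ≫ p₂) (by
    rintro _ ⟨p, rfl⟩; exact p.2.2)
  have hg : ((yon S).map m₁ ≫ D.a'') ≫ f' = ((yon S).map m₂ ≫ D.a'') ≫ f' := by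
    rw [Category.assoc, ← D.comm, ← Functor.map_comp_assoc, hm₁, Category.assoc, ← D.comm,
      ← Functor.map_comp_assoc, hm₂, Functor.map_comp, Functor.map_comp, Category.assoc,
      Category.assoc, sq.w]
  have hd : RepWith @IsOpenImmersion (pullback.diagonal f') :=
    repWith_diagonal_of_unramified hV' hU (locP_mono etale_le_unramified (locP_of_isEtaleMor het))
  obtain ⟨E, e, fe, sqE⟩ := hd.rep (pullback.lift _ _ hg)
  have : IsOpenImmersion e.left := hd.property _ fe e sqE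
  have : IsClosedImmersion e.left := hsep.property _ fe e sqE
  have hE : (yon S).map e ≫ (yon S).map m₁ ≫ D.a'' = (yon S).map e ≫ (yon S).map m₂ ≫ D.a'' := by
    have h₁ := sqE.w =≫ pullback.fst f' f'
    have h₂ := sqE.w =≫ pullback.snd f' f'
    simp only [Category.assoc, pullback.diagonal_fst, pullback.diagonal_snd, Category.comp_id,
      pullback.lift_fst, pullback.lift_snd] at h₁ h₂
    rw [← h₁, ← h₂]
  let i : E ⟶ R₀ := e ≫ resι O
  have : IsOpenImmersion i.left := inferInstanceAs (IsOpenImmersion (e.left ≫ O.ι))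
  have hiC : IsClosed (Set.range i.left) := by
    have : Set.range i.left = Subtype.val '' Set.range e.left := by
      rw [← Set.range_comp]; rfl
    rw [this]
    exact hO.isClosedMap_subtype_val _ e.left.isClosedEmbedding.isClosed_range
  let C : R₀.left.Opens := ⟨(Set.range i.left)ᶜ, hiC.isOpen_compl⟩
  let R : Over S := Over.mk (coprod.desc P.hom (C.ι ≫ R₀.hom))
  let inl : P ⟶ R := Over.homMk coprod.inl (coprod.inl_desc _ _)
  let inr : resObj C ⟶ R := Over.homMk coprod.inr (coprod.inr_desc _ _)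
  let tl : R.left ⟶ D.A.left :=
    coprod.desc (q₁.left ≫ D.ι₂.left) (C.ι ≫ p₁.left ≫ D.ι₁.left)
  let sl : R.left ⟶ D.A.left :=
    coprod.desc (q₂.left ≫ D.ι₂.left) (C.ι ≫ p₂.left ≫ D.ι₁.left)
  let t : R ⟶ D.A := Over.homMk tl (by
    refine coprod.hom_ext ?_ ?_
    · simp [tl, R, Over.w q₁, Over.w D.ι₂]
    · simp [tl, R, Over.w p₁, Over.w D.ι₁])
  let s : R ⟶ D.A := Over.homMk sl (by
    refine coprod.hom_ext ?_ ?_
    · simp [sl, R, Over.w q₂, Over.w D.ι₂]
    · simp [sl, R, Over.w p₂, Over.w D.ι₁])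
  have hlt : inl ≫ t = q₁ ≫ D.ι₂ := Over.OverMorphism.ext (coprod.inl_desc _ _)
  have hls : inl ≫ s = q₂ ≫ D.ι₂ := Over.OverMorphism.ext (coprod.inl_desc _ _)
  have hrt : inr ≫ t = resι C ≫ p₁ ≫ D.ι₁ := Over.OverMorphism.ext (coprod.inr_desc _ _)
  have hrs : inr ≫ s = resι C ≫ p₂ ≫ D.ι₁ := Over.OverMorphism.ext (coprod.inr_desc _ _)
  have : IsOpenImmersion inl.left :=
    inferInstanceAs (IsOpenImmersion (coprod.inl : P.left ⟶ P.left ⨿ (C : Scheme.{u})))
  have : IsOpenImmersion inr.left :=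
    inferInstanceAs (IsOpenImmersion (coprod.inr : (C : Scheme.{u}) ⟶ P.left ⨿ (C : Scheme.{u})))
  -- near each point a map into `R` lands in one of the two pieces
  have loc : ∀ {Z : Over S} (r : Z ⟶ R) (z : ↥Z.left),
      (∃ L : Z.left.Opens, z ∈ L ∧ ∃ b : resObj L ⟶ P, b ≫ inl = resι L ≫ r) ∨
      (∃ L : Z.left.Opens, z ∈ L ∧ ∃ b : resObj L ⟶ resObj C, b ≫ inr = resι L ≫ r) := by
    intro Z r z
    obtain ⟨p | p, hp⟩ := (coprodMk P.left (C : Scheme.{u})).surjective (r.left z)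
    · rw [coprodMk_inl] at hp
      exact Or.inl ⟨r.left ⁻¹ᵁ inl.left.opensRange, ⟨p, hp⟩, exists_resLift_of_mem inl r⟩
    · rw [coprodMk_inr] at hp
      exact Or.inr ⟨r.left ⁻¹ᵁ inr.left.opensRange, ⟨p, hp⟩, exists_resLift_of_mem inr r⟩
  -- the two pieces give different pairs
  have disj : ∀ {Z : Over S} (b : Z ⟶ P) (c : Z ⟶ resObj C),
      b ≫ q₁ ≫ D.ι₂ = c ≫ resι C ≫ p₁ ≫ D.ι₁ → b ≫ q₂ ≫ D.ι₂ = c ≫ resι C ≫ p₂ ≫ D.ι₁ →
        IsEmpty ↥Z.left := by
    intro Z b c h₁ h₂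
    refine ⟨fun z => ?_⟩
    let x'' := D.sqι.lift (c ≫ resι C ≫ p₁) (b ≫ q₁) (by simp only [Category.assoc, h₁])
    let y'' := D.sqι.lift (c ≫ resι C ≫ p₂) (b ≫ q₂) (by simp only [Category.assoc, h₂])
    have hx : x'' ≫ D.k₁ = c ≫ resι C ≫ p₁ := D.sqι.lift_fst _ _ _
    have hy : y'' ≫ D.k₁ = c ≫ resι C ≫ p₂ := D.sqι.lift_fst _ _ _
    have : IsOpenImmersion (resι O).left := inferInstanceAs (IsOpenImmersion O.ι)
    obtain ⟨o, ho⟩ := exists_lift_of_range (resι O) (c ≫ resι C) (by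
      rintro _ ⟨p, rfl⟩
      have hmem : (c ≫ resι C).left p ∈ O := ⟨⟨x''.left p, by
        rw [← Scheme.Hom.comp_apply, ← Over.comp_left, hx]; rfl⟩, ⟨y''.left p, by
        rw [← Scheme.Hom.comp_apply, ← Over.comp_left, hy]; rfl⟩⟩
      exact ⟨⟨_, hmem⟩, rfl⟩)
    have ho₁ : o ≫ m₁ = x'' := (cancel_mono D.k₁).1 (by
      rw [Category.assoc, hm₁, hx, ← Category.assoc, ho, Category.assoc])
    have ho₂ : o ≫ m₂ = y'' := (cancel_mono D.k₁).1 (by
      rw [Category.assoc, hm₂, hy, ← Category.assoc, ho, Category.assoc])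
    have ea : (yon S).map x'' ≫ D.a'' = (yon S).map y'' ≫ D.a'' := (cancel_mono jV).1 (by
      rw [Category.assoc, Category.assoc, D.sqV.w, ← Functor.map_comp_assoc,
        ← Functor.map_comp_assoc, D.sqι.lift_snd, D.sqι.lift_snd, Functor.map_comp, Functor.map_comp,
        Category.assoc, Category.assoc, sqP.w])
    have w : ((yon S).map x'' ≫ D.a'') ≫ pullback.diagonal f' =
        (yon S).map o ≫ pullback.lift _ _ hg := by
      refine pullback.hom_ext ?_ ?_
      · rw [Category.assoc, pullback.diagonal_fst, Category.comp_id, Category.assoc,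
          pullback.lift_fst, ← Functor.map_comp_assoc, ho₁]
      · rw [Category.assoc, pullback.diagonal_snd, Category.comp_id, Category.assoc,
          pullback.lift_snd, ← Functor.map_comp_assoc, ho₂, ea]
    obtain ⟨l, hl⟩ := (yon S).map_surjective (sqE.lift _ _ w)
    have hle : l ≫ e = o := (yon S).map_injective (by rw [Functor.map_comp, hl, sqE.lift_snd])
    have h₃ : (c ≫ resι C).left z ∈ Set.range i.left :=
      ⟨l.left z, by rw [← Scheme.Hom.comp_apply, ← Over.comp_left,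
        show l ≫ i = c ≫ resι C by rw [← ho, ← hle, Category.assoc]]⟩
    exact (c.left z).2 h₃
  have inj : ∀ (Z : Over S) (r r' : Z ⟶ R), r ≫ t = r' ≫ t → r ≫ s = r' ≫ s → r = r' := by
    intro Z r r' h₁ h₂
    refine (yon S).map_injective (hom_ext_res fun z => ?_)
    rcases loc r z with ⟨L₁, hz₁, a, ha⟩ | ⟨L₁, hz₁, a, ha⟩ <;>
      rcases loc r' z with ⟨L₂, hz₂, b, hb⟩ | ⟨L₂, hz₂, b, hb⟩ <;>
      obtain ⟨m, hm, -⟩ := exists_resMap (inf_le_left : L₁ ⊓ L₂ ≤ L₁) <;>
      obtain ⟨m', hm', -⟩ := exists_resMap (inf_le_right : L₁ ⊓ L₂ ≤ L₂) <;>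
      refine ⟨L₁ ⊓ L₂, ⟨hz₁, hz₂⟩, ?_⟩ <;>
      have et := congrArg (resι (L₁ ⊓ L₂) ≫ ·) h₁ <;>
      have es := congrArg (resι (L₁ ⊓ L₂) ≫ ·) h₂ <;>
      rw [← Functor.map_comp, ← Functor.map_comp] <;>
      congr 1 <;>
      have er : resι (L₁ ⊓ L₂) ≫ r = m ≫ resι L₁ ≫ r := by rw [← Category.assoc, hm]
    all_goals
      have er' : resι (L₁ ⊓ L₂) ≫ r' = m' ≫ resι L₂ ≫ r' := by rw [← Category.assoc, hm']
      simp only [← Category.assoc (resι (L₁ ⊓ L₂))] at et es
      rw [er, er', ← ha, ← hb] at et es ⊢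
      simp only [Category.assoc, hlt, hls, hrt, hrs] at et es
    · simp only [← Category.assoc] at et es
      rw [cancel_mono] at et es
      simp only [Category.assoc] at et es
      have e₀ : m ≫ a = m' ≫ b := (yon S).map_injective (sqP.hom_ext
        (by rw [← Functor.map_comp, ← Functor.map_comp, Category.assoc, Category.assoc, et])
        (by rw [← Functor.map_comp, ← Functor.map_comp, Category.assoc, Category.assoc, es]))
      rw [reassoc_of% e₀]
    · have := disj (m ≫ a) (m' ≫ b) (by simpa [Category.assoc] using et)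
        (by simpa [Category.assoc] using es)
      exact (this.false ⟨z, hz₁, hz₂⟩).elim
    · have := disj (m' ≫ b) (m ≫ a) (by simpa [Category.assoc] using et.symm)
        (by simpa [Category.assoc] using es.symm)
      exact (this.false ⟨z, hz₁, hz₂⟩).elim
    · simp only [← Category.assoc] at et es
      rw [cancel_mono] at et es
      simp only [Category.assoc] at et es
      have e₀ : m ≫ a ≫ resι C = m' ≫ b ≫ resι C := (yon S).map_injective (sq.hom_ext
        (by rw [← Functor.map_comp, ← Functor.map_comp]; simp only [Category.assoc, et])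
        (by rw [← Functor.map_comp, ← Functor.map_comp]; simp only [Category.assoc, es]))
      have : Mono (resι C) := (Over.forget S).mono_of_mono_map (inferInstanceAs (Mono C.ι))
      simp only [← Category.assoc] at e₀ ⊢
      rw [(cancel_mono (resι C)).1 e₀]
  have hrel : ∀ {Z : Over S} (x y : Z ⟶ D.A),
      (∃ r : Z ⟶ R, r ≫ t = x ∧ r ≫ s = y) ↔ GRel D x y := by
    intro Z x y
    constructor
    · rintro ⟨r, rfl, rfl⟩ z
      rcases loc r z with ⟨L, hz, b, hb⟩ | ⟨L, hz, b, hb⟩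
      · refine ⟨L, hz, Or.inr ⟨b ≫ q₁, b ≫ q₂, ?_, ?_, ?_⟩⟩
        · rw [← reassoc_of% hb, hlt, Category.assoc]
        · rw [← reassoc_of% hb, hls, Category.assoc]
        · simp only [Functor.map_comp, Category.assoc, sqP.w]
      · refine ⟨L, hz, Or.inl ⟨b ≫ resι C ≫ p₁, b ≫ resι C ≫ p₂, ?_, ?_, ?_⟩⟩
        · rw [← reassoc_of% hb, hrt]; simp only [Category.assoc]
        · rw [← reassoc_of% hb, hrs]; simp only [Category.assoc]
        · simp only [Functor.map_comp, Category.assoc, sq.w]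
    · intro h
      -- a pair with the same image in `V` lifts to the first piece
      have liftP : ∀ {T : Over S} (x₂ y₂ : T ⟶ D.A₂),
          (yon S).map x₂ ≫ D.a = (yon S).map y₂ ≫ D.a →
            ∃ r : T ⟶ R, r ≫ t = x₂ ≫ D.ι₂ ∧ r ≫ s = y₂ ≫ D.ι₂ := by
        intro T x₂ y₂ e'
        obtain ⟨w, hw⟩ := (yon S).map_surjective (sqP.lift _ _ e')
        have hw₁ : w ≫ q₁ = x₂ := (yon S).map_injective (by
          rw [Functor.map_comp, hw, sqP.lift_fst])
        have hw₂ : w ≫ q₂ = y₂ := (yon S).map_injective (by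
          rw [Functor.map_comp, hw, sqP.lift_snd])
        exact ⟨w ≫ inl, by rw [Category.assoc, hlt, reassoc_of% hw₁],
          by rw [Category.assoc, hls, reassoc_of% hw₂]⟩
      have h' : ∀ z : ↥Z.left, ∃ (L : Z.left.Opens) (r : resObj L ⟶ R), z ∈ L ∧
          r ≫ t = resι L ≫ x ∧ r ≫ s = resι L ≫ y := by
        intro z
        obtain ⟨L, hz, ⟨x', y', hx, hy, e'⟩ | ⟨x', y', hx, hy, e'⟩⟩ := h z
        swap
        · obtain ⟨r, hr₁, hr₂⟩ := liftP x' y' e'
          exact ⟨L, r, hz, hr₁.trans hx, hr₂.trans hy⟩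
        obtain ⟨w, hw⟩ := (yon S).map_surjective (sq.lift _ _ e')
        have hw₁ : w ≫ p₁ = x' := (yon S).map_injective (by
          rw [Functor.map_comp, hw, sq.lift_fst])
        have hw₂ : w ≫ p₂ = y' := (yon S).map_injective (by
          rw [Functor.map_comp, hw, sq.lift_snd])
        by_cases hm : w.left ⟨z, hz⟩ ∈ Set.range i.left
        · obtain ⟨b, hb⟩ := exists_resLift_of_mem i w
          obtain ⟨M, k, hzM, hk⟩ := exists_resNested L _ ⟨z, hz⟩ (show ⟨z, hz⟩ ∈
            w.left ⁻¹ᵁ i.left.opensRange from hm)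
          have ea : (yon S).map (b ≫ e ≫ m₁) ≫ D.a'' = (yon S).map (b ≫ e ≫ m₂) ≫ D.a'' := by
            simp only [Functor.map_comp, Category.assoc, hE]
          obtain ⟨r, hr₁, hr₂⟩ := liftP (b ≫ e ≫ m₁ ≫ D.k₂) (b ≫ e ≫ m₂ ≫ D.k₂) (by
            simp only [Functor.map_comp, Category.assoc, ← D.sqV.w]
            simp only [Functor.map_comp, Category.assoc] at ea
            rw [reassoc_of% ea])
          refine ⟨M, k ≫ r, hzM, ?_, ?_⟩
          · rw [Category.assoc, hr₁]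
            simp only [Category.assoc, ← D.sqι.w, reassoc_of% hm₁]
            rw [← Category.assoc e, reassoc_of% hb, reassoc_of% hw₁, hx, reassoc_of% hk]
          · rw [Category.assoc, hr₂]
            simp only [Category.assoc, ← D.sqι.w, reassoc_of% hm₂]
            rw [← Category.assoc e, reassoc_of% hb, reassoc_of% hw₂, hy, reassoc_of% hk]
        · have : IsOpenImmersion (resι C).left := inferInstanceAs (IsOpenImmersion C.ι)
          obtain ⟨b, hb⟩ := exists_resLift_of_mem (resι C) w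
          obtain ⟨M, k, hzM, hk⟩ := exists_resNested L (w.left ⁻¹ᵁ (resι C).left.opensRange) ⟨z, hz⟩
            (by
              show w.left ⟨z, hz⟩ ∈ C.ι.opensRange
              rw [Scheme.Opens.opensRange_ι]
              exact hm)
          refine ⟨M, k ≫ b ≫ inr, hzM, ?_, ?_⟩
          · rw [Category.assoc, Category.assoc, hrt, reassoc_of% hb, reassoc_of% hw₁, hx,
              reassoc_of% hk]
          · rw [Category.assoc, Category.assoc, hrs, reassoc_of% hb, reassoc_of% hw₂, hy,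
              reassoc_of% hk]
      choose L r hz hrt' hrs' using h'
      let 𝒰 := Z.left.openCoverOfIsOpenCover L
        (eq_top_iff.2 fun z _ => Opens.mem_iSup.2 ⟨z, hz z⟩)
      obtain ⟨g, hg⟩ := exists_glue_of_openCover 𝒰 (fun i => (yon S).map (r i))
        fun i j T p q epq => by
          rw [← Functor.map_comp, ← Functor.map_comp]
          refine congrArg (yon S).map (inj T _ _ ?_ ?_)
          · rw [Category.assoc, Category.assoc]; erw [hrt' i, hrt' j]
            refine (Category.assoc _ _ _).symm.trans (Eq.trans ?_ (Category.assoc _ _ _))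
            exact congrArg (· ≫ x) (Over.OverMorphism.ext epq)
          · rw [Category.assoc, Category.assoc]; erw [hrs' i, hrs' j]
            refine (Category.assoc _ _ _).symm.trans (Eq.trans ?_ (Category.assoc _ _ _))
            exact congrArg (· ≫ y) (Over.OverMorphism.ext epq)
      obtain ⟨g, rfl⟩ := (yon S).map_surjective g
      have hg' : ∀ i, resι (L i) ≫ g = r i := fun i => (yon S).map_injective (by
        rw [Functor.map_comp]; exact hg i)
      refine ⟨g, (yon S).map_injective (hom_ext_res fun z => ⟨L z, hz z, ?_⟩),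
        (yon S).map_injective (hom_ext_res fun z => ⟨L z, hz z, ?_⟩)⟩
      · rw [← Functor.map_comp, ← Functor.map_comp, ← Category.assoc, hg', hrt']
      · rw [← Functor.map_comp, ← Functor.map_comp, ← Category.assoc, hg', hrs']
  refine ⟨R, t, s, ⟨inj, fun Z => ⟨fun x => (hrel x x).2 (GRel.refl D x),
      fun h => (hrel _ _).2 ((hrel _ _).1 h).symm,
      fun h h' => (hrel _ _).2 (((hrel _ _).1 h).trans ((hrel _ _).1 h'))⟩⟩,
    ?_, ?_, hrel⟩
  · refine of_coprod_pieces _ ?_ ?_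
    · show Etale (coprod.inl ≫ coprod.desc _ _)
      rw [coprod.inl_desc]
      infer_instance
    · show Etale (coprod.inr ≫ coprod.desc _ _)
      rw [coprod.inr_desc]
      infer_instance
  · refine of_coprod_pieces _ ?_ ?_
    · show Etale (coprod.inl ≫ coprod.desc _ _)
      rw [coprod.inl_desc]
      infer_instance
    · show Etale (coprod.inr ≫ coprod.desc _ _)
      rw [coprod.inr_desc]
      infer_instance

end

end Groth.AlgSp2.ElemDistGlue
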